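import Groth.Agent.Exp31.DiffExp
import Groth.Agent.Exp31.Laurent
import Mathlib.Algebra.Polynomial.Derivative
import Mathlib.Algebra.Polynomial.BigOperators

/-! The different exponent as the order of a derivative. -/

namespace Groth.Agent.Diff31

open FunFld WithZero Polynomial
open scoped LaurentSeries

universe u v v' w w'

theorem val_D_le_one {F : Type*} [Field F] {f : F⸨X⸩} (h : Valued.v f ≤ 1) :
    Valued.v (LocRes.D F f) ≤ 1 := by
  rw [← exp_zero, ← neg_zero, Exp31.val_le_iff] at h ⊢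
  intro n hn
  rw [LocRes.D_coeff]
  rcases eq_or_ne n (-1) with rfl | hne
  · simp
  · rw [h (n + 1) (by omega), smul_zero]

variable {k : Type u} {K : Type v} {K' : Type v'} [Field k] [Field K] [Field K'] [Algebra k K] [Algebra k K']
  [Algebra K K'] [IsScalarTower k K K'] {F : Type w} {F' : Type w'} [Field F] [Algebra k F] [Field F']
  [Algebra k F'] {P : Place k K} {Q : Place k K'} {e : ℕ} {φ : K →ₐ[k] F⸨X⸩}
  {ψ : K' →ₐ[k] F'⸨X⸩}

omit [Field K] [Algebra k K] [Algebra K K'] [IsScalarTower k K K'] in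
theorem D_eval (ψ : K' →ₐ[k] F'⸨X⸩) (g : K'[X]) (s : K') :
    LocRes.D F' (ψ (g.eval s)) = g.sum (fun i c => ψ s ^ i * LocRes.D F' (ψ c)) +
      ψ ((derivative g).eval s) * LocRes.D F' (ψ s) := by
  induction g using Polynomial.induction_on' with
  | add p q hp hq =>
    rw [eval_add, map_add, map_add, hp, hq, derivative_add, eval_add, map_add, add_mul,
      Polynomial.sum_add_index _ _ _ (fun i => by simp) (fun i a b => by rw [map_add, map_add, mul_add])]
    ring
  | monomial n c =>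
    rw [sum_monomial_index _ _ (by simp), eval_monomial, derivative_monomial, eval_monomial, map_mul,
      map_pow, Derivation.leibniz, Derivation.leibniz_pow]
    simp only [smul_eq_mul, nsmul_eq_mul, map_mul, map_natCast, map_pow]
    ring

omit [Field K] [Algebra k K] [Algebra K K'] [IsScalarTower k K K'] in
/-- If the coefficients of an equation of a parameter `s` vary by at most `E`, and the constant one by
exactly `E`, then the derivative at `s` has absolute value `E`. -/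
theorem val_deriv_eq (hψ : LocRes.IsExpansionAt Q.1 ψ) {E : WithZero (Multiplicative ℤ)}
    (hE : E ≠ 0) {g : K'[X]} {s : K'} (hs : Q.1 s = exp (-1)) (hg : g.eval s = 0)
    (hc : ∀ i, Valued.v (LocRes.D F' (ψ (g.coeff i))) ≤ E)
    (hc0 : Valued.v (LocRes.D F' (ψ (g.coeff 0))) = E) :
    Q.1 ((derivative g).eval s) = E := by
  have hDs : Valued.v (LocRes.D F' (ψ s)) = 1 := by
    have := Exp31.val_D_eq (e := 1) ((hψ.1 s).trans hs) (by simp)
    simpa using this
  have h := D_eval ψ g s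
  rw [hg, map_zero, map_zero, eq_comm, add_eq_zero_iff_eq_neg] at h
  have hsum : Valued.v (g.sum fun i c => ψ s ^ i * LocRes.D F' (ψ c)) = E := by
    have h0 : (0 : ℕ) ∈ g.support := by
      rw [mem_support_iff]
      intro h0
      rw [h0, map_zero, map_zero, map_zero] at hc0
      exact hE hc0.symm
    rw [Polynomial.sum_def, ← Finset.add_sum_erase _ _ h0, pow_zero, one_mul,
      Valuation.map_add_eq_of_lt_left, hc0]
    rw [hc0]
    refine Valuation.map_sum_lt _ hE fun i hi => ?_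
    have hi0 : i ≠ 0 := Finset.ne_of_mem_erase hi
    rw [map_mul, map_pow, hψ.1, hs]
    refine (mul_le_mul' le_rfl (hc i)).trans_lt ?_
    calc exp (-1 : ℤ) ^ i * E < 1 * E := by
          refine mul_lt_mul_of_pos_right ?_ (zero_lt_iff.2 hE)
          exact pow_lt_one₀ zero_le (by rw [← exp_zero, exp_lt_exp]; omega) hi0
      _ = E := one_mul E
  rw [← hψ.1]
  rw [h, Valuation.map_neg, map_mul, hDs, mul_one] at hsum
  exact hsum

omit [Field K] [Algebra k K] [Algebra K K'] [IsScalarTower k K K'] in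
theorem val_D_mul_unit (hψ : LocRes.IsExpansionAt Q.1 ψ) {E : WithZero (Multiplicative ℤ)} (hE : E ≠ 0)
    {τ u : K'} (hτ : Q.1 τ < 1) (hDτ : Valued.v (LocRes.D F' (ψ τ)) = E) (hu : Q.1 u = 1)
    (hDu : Valued.v (LocRes.D F' (ψ u)) ≤ E) : Valued.v (LocRes.D F' (ψ (τ * u))) = E := by
  rw [map_mul, Derivation.leibniz, smul_eq_mul, smul_eq_mul, Valuation.map_add_eq_of_lt_right, map_mul,
    hψ.1, hu, one_mul, hDτ]
  rw [map_mul, map_mul, hψ.1, hψ.1, hu, one_mul, hDτ]
  calc Q.1 τ * Valued.v (LocRes.D F' (ψ u)) ≤ Q.1 τ * E := mul_le_mul' le_rfl hDu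
    _ < 1 * E := mul_lt_mul_of_pos_right hτ (zero_lt_iff.2 hE)
    _ = E := one_mul E

/-- A uniformizer below measures the different, and bounds the derivatives of integers below. -/
theorem exists_param [Algebra.IsSeparable K K'] (hK : IsFunctionField k K) (hg : IsGeometric k K)
    (hφ : LocRes.IsExpansionAt P.1 φ) (hψ : LocRes.IsExpansionAt Q.1 ψ) (he : IsOverWith Q P e)
    {x : K} (hx : LocRes.vDiff φ 1 x ≠ 0) (hx' : LocRes.vDiff ψ 1 (algebraMap K K' x) ≠ 0) :
    ∃ τ : K, P.1 τ = exp (-1) ∧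
      Valued.v (LocRes.D F' (ψ (algebraMap K K' τ))) = exp (-LocRes.diffExp φ ψ e x) ∧
      ∀ a : K, P.1 a ≤ 1 →
        Valued.v (LocRes.D F' (ψ (algebraMap K K' a))) ≤ exp (-LocRes.diffExp φ ψ e x) := by
  obtain ⟨t, H, hsep, hH⟩ := Exp31.exists_hasse hK hg
  obtain ⟨τ, hτ, hτ1⟩ := Exp31.exists_unif hφ
  let ψ₀ : K →ₐ[k] F'⸨X⸩ := ψ.comp (IsScalarTower.toAlgHom k K K')
  have hexp : ∀ z, LocRes.D F' (ψ (algebraMap K K' z)) =
      ψ (algebraMap K K' (LocRes.hasseD H 1 z)) * LocRes.D F' (ψ (algebraMap K K' t)) :=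
    fun z => Exp31.D_expansion ψ₀ hH z
  have hHτ : LocRes.hasseD H 1 τ ≠ 0 := fun h0 => by
    rw [Exp31.D_expansion φ hH τ, h0, map_zero, zero_mul, map_zero] at hτ1
    exact zero_ne_one hτ1
  have hDt : LocRes.D F' (ψ (algebraMap K K' t)) ≠ 0 := fun h0 => hx' (by
    rw [Exp31.vDiff_one, hexp, h0, mul_zero, map_zero])
  have hne : LocRes.vDiff ψ 1 (algebraMap K K' τ) ≠ 0 := by
    rw [Exp31.vDiff_one, hexp, map_mul, mul_ne_zero_iff, hψ.1]
    exact ⟨(Valuation.ne_zero_iff _).2 ((_root_.map_ne_zero _).2 hHτ), (Valuation.ne_zero_iff _).2 hDt⟩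
  have h1 : LocRes.vDiff φ 1 τ ≠ 0 := by rw [Exp31.vDiff_one, hτ1]; exact one_ne_zero
  have hd : Valued.v (LocRes.D F' (ψ (algebraMap K K' τ))) = exp (-LocRes.diffExp φ ψ e x) := by
    rw [Exp31.diffExp_eq hφ hψ he hH hx hx', ← Exp31.diffExp_eq hφ hψ he hH h1 hne, LocRes.diffExp,
      LocRes.ordDiff, LocRes.ordDiff, ← Exp31.vDiff_one, Exp31.vDiff_one φ, hτ1, log_one, neg_zero,
      mul_zero, sub_zero, neg_neg, exp_log hne]
  refine ⟨τ, hτ, hd, fun a ha => ?_⟩
  set δ := LocRes.hasseD H 1 a / LocRes.hasseD H 1 τ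
  have hδ : Valued.v (φ δ) ≤ 1 := by
    have h := val_D_le_one (f := φ a) (by rwa [hφ.1])
    have e1 : LocRes.D F (φ a) = φ δ * LocRes.D F (φ τ) := by
      rw [Exp31.D_expansion φ hH a, Exp31.D_expansion φ hH τ, ← mul_assoc, ← map_mul,
        div_mul_cancel₀ _ hHτ]
    rwa [e1, map_mul, hτ1, mul_one] at h
  have e2 : LocRes.D F' (ψ (algebraMap K K' a)) =
      ψ (algebraMap K K' δ) * LocRes.D F' (ψ (algebraMap K K' τ)) := by
    rw [hexp, hexp τ, ← mul_assoc, ← map_mul, ← map_mul, div_mul_cancel₀ _ hHτ]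
  rw [e2, map_mul, hd, hψ.1, he]
  refine mul_le_of_le_one_left' (pow_le_one₀ zero_le ?_)
  rwa [← hφ.1]

/-- A polynomial over the integers at `P` with uniformizing constant term computes the different. -/
theorem val_aeval_deriv [Algebra.IsSeparable K K'] (hK : IsFunctionField k K) (hg : IsGeometric k K)
    (hφ : LocRes.IsExpansionAt P.1 φ) (hψ : LocRes.IsExpansionAt Q.1 ψ) (he : IsOverWith Q P e)
    {x : K} (hx : LocRes.vDiff φ 1 x ≠ 0) (hx' : LocRes.vDiff ψ 1 (algebraMap K K' x) ≠ 0)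
    {g : K[X]} {s : K'} (hs : Q.1 s = exp (-1)) (hgs : aeval s g = 0) (hc : ∀ i, P.1 (g.coeff i) ≤ 1)
    (hc0 : P.1 (g.coeff 0) = exp (-1)) :
    Q.1 (aeval s (derivative g)) = exp (-LocRes.diffExp φ ψ e x) := by
  obtain ⟨τ, hτ, hd, hle⟩ := exists_param hK hg hφ hψ he hx hx'
  rw [aeval_def, ← eval_map, ← derivative_map]
  refine val_deriv_eq hψ exp_ne_zero hs (by rwa [eval_map, ← aeval_def]) (fun i => ?_) ?_
  · rw [coeff_map]; exact hle _ (hc i)
  · rw [coeff_map]
    have hτ0 : τ ≠ 0 := fun h => by rw [h, map_zero] at hτ; exact exp_ne_zero hτ.symm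
    rw [← mul_div_cancel₀ (g.coeff 0) hτ0, map_mul]
    have hu : P.1 (g.coeff 0 / τ) = 1 := by rw [map_div₀, hc0, hτ, div_self exp_ne_zero]
    refine val_D_mul_unit hψ exp_ne_zero ?_ hd (by rw [he, hu, one_pow]) (hle _ hu.le)
    rw [he, hτ, ← exp_nsmul, ← exp_zero, exp_lt_exp]
    have : 0 < e := by
      rcases Nat.eq_zero_or_pos e with rfl | h
      · have := he 0; simp at this
      · exact h
    simp only [nsmul_eq_mul]
    omega

end Groth.Agent.Diff31
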