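import Groth.Agent.Exp31.Local
import Groth.Agent.Exp31.Hasse
import Groth.Agent.FF30.Ext
import Groth.Agent.FF30.Geometric
import Groth.Agent.FF30.Approx
import Groth.Agent.FF30.AlgClosed

/-! The residue field of a place with an expansion is separable over the constants. -/

namespace Groth.Agent.Diff31

open FunFld WithZero
open scoped LaurentSeries IntermediateField

universe u v w

variable {k : Type u} {K K' : Type v} [Field k] [Field K] [Field K'] [Algebra k K] [Algebra k K']
  [Algebra K K'] [IsScalarTower k K K'] [FiniteDimensional K K'] [Algebra.IsSeparable K K']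
  {F' : Type w} [Field F'] [Algebra k F'] {Q : Place k K'} {ψ : K' →ₐ[k] F'⸨X⸩}

omit [Field K] [Algebra k K] [Algebra K K'] [IsScalarTower k K K'] [FiniteDimensional K K']
  [Algebra.IsSeparable K K'] in
/-- The residue field is the coefficient field of an expansion. -/
theorem exists_residue_equiv (hψ : LocRes.IsExpansionAt Q.1 ψ) :
    Nonempty (IsLocalRing.ResidueField Q.O ≃ₐ[k] F') := by
  have hneg : ∀ z : Q.O, ∀ n : ℤ, n < 0 → (ψ (z : K')).coeff n = 0 := fun z =>
    Exp31.val_le_iff.1 (by rw [hψ.1, neg_zero, exp_zero]; exact z.2)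
  have hmul : ∀ a b : Q.O, (ψ ((a : K') * b)).coeff 0 = (ψ (a : K')).coeff 0 * (ψ (b : K')).coeff 0 := by
    intro a b
    rw [map_mul]
    have hsplit : ∀ z : Q.O, ∃ f : PowerSeries F', (f : F'⸨X⸩) = ψ (z : K') := fun z =>
      (LaurentSeries.val_le_one_iff_eq_coe F' _).1 (by rw [hψ.1]; exact z.2)
    obtain ⟨f, hf⟩ := hsplit a
    obtain ⟨g, hg⟩ := hsplit b
    rw [← hf, ← hg, ← PowerSeries.coe_mul]
    simp only [show (0 : ℤ) = ((0 : ℕ) : ℤ) from rfl, LaurentSeries.coeff_coe_powerSeries]
    simp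
  let ρ : Q.O →+* F' :=
    { toFun := fun z => (ψ (z : K')).coeff 0
      map_one' := by simp
      map_zero' := by simp
      map_add' := fun a b => by simp
      map_mul' := hmul }
  have hker : ∀ z : Q.O, ρ z = 0 ↔ z ∈ IsLocalRing.maximalIdeal Q.O := fun z => by
    have hlt : Q.1 (z : K') < 1 ↔ Valued.v (ψ (z : K')) ≤ exp (-1) := by
      rw [hψ.1]
      exact ⟨FF30.val_lt_one_le Q, fun h => h.trans_lt ((exp_lt_exp.2 (by norm_num : (-1 : ℤ) < 0)).trans_eq exp_zero)⟩
    have h2 : z ∈ IsLocalRing.maximalIdeal Q.O ↔ Q.1 (z : K') < 1 :=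
      Valuation.mem_maximalIdeal_iff (v := Q.1)
    rw [h2, hlt, Exp31.val_le_iff]
    refine ⟨fun h n hn => ?_, fun h => h 0 (by norm_num)⟩
    rcases (show n < 0 ∨ n = 0 by omega) with h' | rfl
    · exact hneg z n h'
    · exact h
  have : IsLocalHom ρ := ⟨fun z hz => by
    by_contra hu
    rw [← mem_nonunits_iff, ← IsLocalRing.mem_maximalIdeal, ← hker] at hu
    exact hz.ne_zero hu⟩
  let f : IsLocalRing.ResidueField Q.O →+* F' := IsLocalRing.ResidueField.lift ρ
  have hsurj : Function.Surjective f := fun c => by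
    obtain ⟨z, hz, hzc⟩ := hψ.2.1 c
    exact ⟨IsLocalRing.residue Q.O ⟨z, hz⟩, hzc⟩
  refine ⟨AlgEquiv.ofRingEquiv (f := RingEquiv.ofBijective f ⟨f.injective, hsurj⟩) fun c => ?_⟩
  show (ψ (algebraMap k K' c)).coeff 0 = algebraMap k F' c
  rw [LocRes.map_algebraMap]
  simp

theorem isSeparable_residue (hK : IsFunctionField k K) (hg : IsGeometric k K)
    (hψ : LocRes.IsExpansionAt Q.1 ψ) :
    Algebra.IsSeparable k (IsLocalRing.ResidueField Q.O) := by
  obtain ⟨t, ht, hfin, hsep⟩ := Exp31.exists_separating hK hg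
  have hF : FF30.FF k K := hK.1
  have ht' : Transcendental k (algebraMap K K' t) := fun ha =>
    ht ((isAlgebraic_algebraMap_iff (algebraMap K K').injective).mp ha)
  set t' := algebraMap K K' t with ht'def
  have : FiniteDimensional k⟮t'⟯ K' := (hF.extension K').finiteDimensional_adjoin ht'
  have : Algebra.IsSeparable k⟮t⟯ K' := Algebra.IsSeparable.trans k⟮t⟯ K K'
  have hmap : k⟮t⟯.map (IsScalarTower.toAlgHom k K K') = k⟮t'⟯ := by
    rw [IntermediateField.adjoin_map]; simp [ht'def]
  let i : k⟮t⟯ ≃+* k⟮t'⟯ :=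
    ((k⟮t⟯.equivMap (IsScalarTower.toAlgHom k K K')).trans
      (IntermediateField.equivOfEq hmap)).toRingEquiv
  have : Algebra.IsSeparable k⟮t'⟯ K' :=
    Algebra.IsSeparable.of_equiv_equiv i (RingEquiv.refl K') (RingHom.ext fun _ => rfl)
  obtain ⟨H, hH⟩ := Exp31.exists_isHasseFamily t' ht'
  obtain ⟨E⟩ := exists_residue_equiv hψ
  have hmod : (IsLocalRing.instModuleResidueFieldOfAlgebra Q.O :
      Module k (IsLocalRing.ResidueField Q.O)) = Algebra.toModule :=
    Module.ext' _ _ fun c r => (FF30.residue_smul_eq_mul Q c r).trans (Algebra.smul_def c r).symm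
  have hfin' : @Module.Finite k (IsLocalRing.ResidueField Q.O) _ _ Algebra.toModule :=
    hmod ▸ (hF.extension K').finite_residueField Q
  have : Module.Finite k F' := haveI := hfin'; Module.Finite.equiv E.toLinearEquiv
  have h0 : ∀ l : KaehlerDifferential k F' →ₗ[F'] F', l = 0 := fun l => by
    have := Exp31.derivation_eq_zero_coeffField hψ hH (KaehlerDifferential.linearMapEquivDerivation k F' l)
    simpa using this
  have : Subsingleton (KaehlerDifferential k F') := ⟨fun a b => by
    rw [← sub_eq_zero]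
    exact (Module.forall_dual_apply_eq_zero_iff F' _).1 fun l => by rw [h0 l]; rfl⟩
  have : Algebra.FormallyUnramified k F' := ⟨this⟩
  have : Algebra.IsSeparable k F' := Algebra.FormallyUnramified.isSeparable k F'
  exact AlgEquiv.Algebra.isSeparable E.symm

end Groth.Agent.Diff31
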