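import Groth.Agent.Res31.Pairing
import Groth.Agent.Diff31.Residue
import Groth.Agent.FF30.Differentials
import Groth.Agent.Exp31.DiffExp
import Groth.Agent.FF30.Ext

/-! The Riemann–Hurwitz formula. -/

namespace Groth.Agent.Diff31

open FunFld WithZero
open scoped LaurentSeries IntermediateField

universe u v w

section Dx

variable {k : Type u} {K : Type v} [Field k] [Field K] [Algebra k K] {F : Type w} [Field F] [Algebra k F]

theorem kaehlerD_ne_zero_of_vDiff {t : K} [Algebra.IsSeparable k⟮t⟯ K] {H : K →ₐ[k] PowerSeries K} (hH : LocRes.IsHasseFamily t H)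
    {φ : K →ₐ[k] F⸨X⸩} {x : K} (hx : LocRes.vDiff φ 1 x ≠ 0) : KaehlerDifferential.D k K x ≠ 0 := by
  intro h
  apply hx
  have h0 : LocRes.hasseD H 1 x = 0 := by
    have := congrArg (FF30.hasseDer hH).liftKaehlerDifferential h
    rwa [Derivation.liftKaehlerDifferential_comp_D, map_zero, FF30.hasseDer_apply] at this
  rw [Exp31.vDiff_one, Exp31.D_expansion φ hH x, h0, map_zero, zero_mul, map_zero]

theorem finite_coeffField (hF : FF30.FF k K) {P : Place k K} {φ : K →ₐ[k] F⸨X⸩}
    (hφ : LocRes.IsExpansionAt P.1 φ) : FiniteDimensional k F := by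
  obtain ⟨E⟩ := exists_residue_equiv hφ
  have hmod : (IsLocalRing.instModuleResidueFieldOfAlgebra P.O :
      Module k (IsLocalRing.ResidueField P.O)) = Algebra.toModule :=
    Module.ext' _ _ fun c r => (FF30.residue_smul_eq_mul P c r).trans (Algebra.smul_def c r).symm
  have h : @Module.Finite k (IsLocalRing.ResidueField P.O) _ _ Algebra.toModule :=
    hmod ▸ hF.finite_residueField P
  exact haveI := h; Module.Finite.equiv E.toLinearEquiv

end Dx

section Change

variable {k k' : Type u} {K' : Type v} [Field k] [Field k'] [Field K'] [Algebra k k'] [Algebra k' K']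
  [Algebra k K'] [IsScalarTower k k' K'] [FiniteDimensional k k']

variable (k k' K') in
/-- The places over `k'` are the places over `k`. -/
noncomputable def placeEquiv : Place k' K' ≃ Place k K' where
  toFun Q := ⟨Q.1, fun c => by rw [IsScalarTower.algebraMap_apply k k' K']; exact Q.2.1 _, Q.2.2⟩
  invFun Q := ⟨Q.1, fun c => by
    obtain ⟨p, hp, hpc⟩ := Algebra.IsIntegral.isIntegral (R := k) c
    by_contra hlt
    rw [not_le] at hlt
    set z := algebraMap k' K' c
    have hz : Polynomial.aeval z p = 0 := by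
      rw [show z = IsScalarTower.toAlgHom k k' K' c from rfl, Polynomial.aeval_algHom_apply,
        show Polynomial.aeval c p = 0 from hpc, map_zero]
    rw [Polynomial.aeval_eq_sum_range, Finset.sum_range_succ, hp.coeff_natDegree, one_smul] at hz
    have hv : Q.1 (z ^ p.natDegree) ≤ Q.1 z ^ (p.natDegree) / Q.1 z := by
      rw [eq_neg_of_add_eq_zero_right hz, Valuation.map_neg]
      refine Q.1.map_sum_le fun i hi => ?_
      rw [Algebra.smul_def, map_mul, map_pow]
      refine (mul_le_of_le_one_left' (Q.2.1 _)).trans ?_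
      rw [le_div_iff₀ (zero_lt_one.trans hlt), ← pow_succ]
      exact pow_le_pow_right₀ hlt.le (Finset.mem_range.1 hi)
    rw [map_pow, le_div_iff₀ (zero_lt_one.trans hlt)] at hv
    have := le_of_mul_le_mul_left (hv.trans_eq (mul_one _).symm) (pow_pos (zero_lt_one.trans hlt) _)
    exact absurd this (not_le.2 hlt), Q.2.2⟩
  left_inv Q := rfl
  right_inv Q := rfl

theorem deg_placeEquiv (Q : Place k' K') :
    (placeEquiv k k' K' Q).deg = Module.finrank k k' * Q.deg := by
  let R := placeEquiv k k' K' Q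
  let _ : Algebra k' (IsLocalRing.ResidueField R.O) := Place.algRes Q
  have hk : R.deg = @Module.finrank k (IsLocalRing.ResidueField R.O) _ _ Algebra.toModule := by
    rw [show (Algebra.toModule : Module k (IsLocalRing.ResidueField R.O)) =
      IsLocalRing.instModuleResidueFieldOfAlgebra R.O from
        Module.ext' _ _ fun c r => (Algebra.smul_def c r).trans (FF30.residue_smul_eq_mul R c r).symm]
    rfl
  have hk' : Q.deg = @Module.finrank k' (IsLocalRing.ResidueField Q.O) _ _ Algebra.toModule := by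
    rw [show (Algebra.toModule : Module k' (IsLocalRing.ResidueField Q.O)) =
      IsLocalRing.instModuleResidueFieldOfAlgebra Q.O from
        Module.ext' _ _ fun c r => (Algebra.smul_def c r).trans (FF30.residue_smul_eq_mul Q c r).symm]
    rfl
  letI iM : Module k (IsLocalRing.ResidueField R.O) := Algebra.toModule
  letI iM' : Module k' (IsLocalRing.ResidueField R.O) := Algebra.toModule
  haveI : @IsScalarTower k k' (IsLocalRing.ResidueField R.O) _ iM'.toSMul iM.toSMul :=
    IsScalarTower.of_algebraMap_eq fun c => by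
      show IsLocalRing.residue R.O _ = IsLocalRing.residue R.O _
      congr 1
      exact Subtype.ext (IsScalarTower.algebraMap_apply k k' K' c)
  show R.deg = _
  rw [hk, hk']
  exact (@Module.finrank_mul_finrank k k' (IsLocalRing.ResidueField R.O) _ _ _ _ iM' iM _ _ _ _ _).symm

end Change

variable {k k' : Type u} {K K' : Type v} [Field k] [Field k'] [Field K] [Field K']
  [Algebra k k'] [Algebra k K] [Algebra K K'] [Algebra k' K'] [Algebra k K']
  [IsScalarTower k k' K'] [IsScalarTower k K K'] [FiniteDimensional k k'] [FiniteDimensional K K']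
  [Algebra.IsSeparable K K']

theorem exists_separating_top (hK : IsFunctionField k K) (hg : IsGeometric k K)
    (hK' : IsFunctionField k' K') :
    ∃ t : K', Transcendental k' t ∧ FiniteDimensional k'⟮t⟯ K' ∧ Algebra.IsSeparable k'⟮t⟯ K' := by
  obtain ⟨t, ht, hfin, hsep⟩ := Exp31.exists_separating hK hg
  set t' := algebraMap K K' t with ht'def
  have ht' : Transcendental k' t' := fun ha =>
    ht ((isAlgebraic_algebraMap_iff (algebraMap K K').injective).mp (ha.restrictScalars k))
  refine ⟨t', ht', (show FF30.FF k' K' from hK'.1).finiteDimensional_adjoin ht', ?_⟩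
  have : Algebra.IsSeparable k⟮t⟯ K' := Algebra.IsSeparable.trans k⟮t⟯ K K'
  set E := k'⟮t'⟯
  have hle : ∀ c ∈ k⟮t⟯, algebraMap K K' c ∈ E := by
    have h1 : k⟮t⟯.map (IsScalarTower.toAlgHom k K K') ≤ E.restrictScalars k := by
      rw [IntermediateField.adjoin_map, IntermediateField.adjoin_le_iff, Set.image_singleton,
        Set.singleton_subset_iff]
      exact IntermediateField.mem_adjoin_simple_self k' _
    exact fun c hc => h1 ⟨c, hc, rfl⟩
  let g : k⟮t⟯ →+* E := ((algebraMap K K').comp (algebraMap k⟮t⟯ K)).codRestrict E fun c => hle _ c.2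
  let _ : Algebra k⟮t⟯ E := g.toAlgebra
  have : IsScalarTower k⟮t⟯ E K' := IsScalarTower.of_algebraMap_eq fun _ => rfl
  exact Algebra.isSeparable_tower_top_of_isSeparable k⟮t⟯ E K'

theorem riemann_hurwitz (hK : IsFunctionField k K) (hg : IsGeometric k K) (hK' : IsFunctionField k' K')
    {F : Place k K → Type w} [∀ P, Field (F P)] [∀ P, Algebra k (F P)]
    (φ : ∀ P, K →ₐ[k] LaurentSeries (F P)) (hφ : ∀ P, LocRes.IsExpansionAt P.1 (φ P))
    {F' : Place k' K' → Type w} [∀ Q, Field (F' Q)] [∀ Q, Algebra k' (F' Q)]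
    (ψ : ∀ Q, K' →ₐ[k'] LaurentSeries (F' Q)) (hψ : ∀ Q, LocRes.IsExpansionAt Q.1 (ψ Q))
    (below : Place k' K' → Place k K) (e : Place k' K' → ℕ)
    (he : ∀ Q (z : K), Q.1 (algebraMap K K' z) = (below Q).1 z ^ e Q)
    (x : K) (hx : ∀ P, LocRes.vDiff (φ P) 1 x ≠ 0)
    (hx' : ∀ Q, LocRes.vDiff (ψ Q) 1 (algebraMap K K' x) ≠ 0) :
    (Function.support fun Q => LocRes.diffExp (φ (below Q)) (ψ Q) (e Q) x).Finite ∧
    (Module.finrank k k' : ℤ) * (2 * (genus k' K' : ℤ) - 2) =
      (Module.finrank K K' : ℤ) * (2 * (genus k K : ℤ) - 2) +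
      (Module.finrank k k' : ℤ) * ∑ᶠ Q, LocRes.diffExp (φ (below Q)) (ψ Q) (e Q) x * (Q.deg : ℤ) := by
  classical
  have hF : FF30.FF k K := hK.1
  have hF' : FF30.FF k' K' := hK'.1
  have : ∀ P, FiniteDimensional k (F P) := fun P => finite_coeffField hF (hφ P)
  have : ∀ Q, FiniteDimensional k' (F' Q) := fun Q => finite_coeffField hF' (hψ Q)
  -- below
  obtain ⟨t, H, hsep, hH⟩ := Exp31.exists_hasse hK hg
  obtain ⟨P₀⟩ := hF.nonempty_place
  have hdx : KaehlerDifferential.D k K x ≠ 0 := kaehlerD_ne_zero_of_vDiff hH (hx P₀)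
  let B : Divisor k K := Finsupp.ofSupportFinite _ (Res31.finite_ordDiff hK hg hφ one_ne_zero hdx)
  have hB : ∀ P, B P = LocRes.ordDiff (φ P) 1 x := fun _ => rfl
  have hBdeg := Res31.deg_eq_two_genus hK hg hφ one_ne_zero hdx hB
  -- above
  have hs' := exists_separating_top hK hg hK'
  obtain ⟨t', ht', hfin', hsep'⟩ := id hs'
  obtain ⟨H', hH'⟩ := Exp31.exists_isHasseFamily t' ht'
  obtain ⟨Q₀⟩ := hF'.nonempty_place
  have hdx' : KaehlerDifferential.D k' K' (algebraMap K K' x) ≠ 0 := kaehlerD_ne_zero_of_vDiff hH' (hx' Q₀)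
  let A : Divisor k' K' := Finsupp.ofSupportFinite _ (Res31.finite_ordDiff' hK' hs' hψ one_ne_zero hdx')
  have hA : ∀ Q, A Q = LocRes.ordDiff (ψ Q) 1 (algebraMap K K' x) := fun _ => rfl
  have hAdeg : A.deg = 2 * (genus k' K' : ℤ) - 2 := by
    have hdiv := Res31.isDivOf_resW' hK' hs' hψ one_ne_zero hdx' hA
    refine FF30.deg_canonical hK' ⟨_, fun h0 => ?_, hdiv⟩
    have h1 := (hdiv (A + Finsupp.single Q₀ 1)).1 (h0 ▸ Submodule.zero_mem _) Q₀
    simp at h1
  -- transport to `k`
  set π := placeEquiv k k' K'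
  set C : Divisor k K' := conorm K' B with hC
  have hCπ : ∀ Q, C (π Q) = (e Q : ℤ) * B (below Q) := fun Q => hF.conorm_apply B (he Q)
  let C' : Divisor k' K' := C.equivMapDomain π.symm
  have hC' : ∀ Q, C' Q = (e Q : ℤ) * B (below Q) := fun Q => by
    rw [← hCπ]; simp [C', Finsupp.equivMapDomain_apply]
  have hC'deg : C.deg = (Module.finrank k k' : ℤ) * C'.deg := by
    rw [FF30.deg_eq_sum C (subset_refl _), FF30.deg_eq_sum C' (S := C.support.map π.symm.toEmbedding) (by
      intro Q hQ
      rw [Finset.mem_map]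
      refine ⟨π Q, ?_, π.symm_apply_apply Q⟩
      rw [Finsupp.mem_support_iff] at hQ ⊢
      simpa [C', Finsupp.equivMapDomain_apply] using hQ), Finset.mul_sum, Finset.sum_map]
    refine Finset.sum_congr rfl fun R _ => ?_
    have h := deg_placeEquiv (k := k) (π.symm R)
    rw [π.apply_symm_apply] at h
    rw [show C' (π.symm.toEmbedding R) = C R by simp [C', Finsupp.equivMapDomain_apply], h,
      Equiv.coe_toEmbedding]
    push_cast
    ring
  have hdiff : ∀ Q, LocRes.diffExp (φ (below Q)) (ψ Q) (e Q) x = (A - C') Q := fun Q => by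
    rw [Finsupp.sub_apply, hA, hC', hB]; rfl
  have hsupp : (Function.support fun Q => LocRes.diffExp (φ (below Q)) (ψ Q) (e Q) x).Finite :=
    (A - C').support.finite_toSet.subset fun Q hQ => by
      rw [Function.mem_support, hdiff] at hQ
      exact Finsupp.mem_support_iff.2 hQ
  refine ⟨hsupp, ?_⟩
  have hsum : ∑ᶠ Q, LocRes.diffExp (φ (below Q)) (ψ Q) (e Q) x * (Q.deg : ℤ) = (A - C').deg := by
    rw [finsum_eq_sum_of_support_subset _ (s := (A - C').support) (fun Q hQ => by
      rw [Function.mem_support, hdiff] at hQ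
      exact Finsupp.mem_support_iff.2 (left_ne_zero_of_mul hQ)), FF30.deg_eq_sum _ (subset_refl _)]
    exact Finset.sum_congr rfl fun Q _ => by rw [hdiff]
  have hCdeg := hF.deg_conorm (K' := K') B
  rw [← hC, hC'deg, hBdeg] at hCdeg
  rw [hsum, FF30.deg_sub, hAdeg]
  linear_combination hCdeg

end Groth.Agent.Diff31
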