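import Groth.Agent.Diff31.Local
import Groth.Agent.Diff31.Residue
import Groth.Agent.FF30.RamGroup
import Groth.Agent.FF30.InertiaField
import Mathlib.FieldTheory.PurelyInseparable.PerfectClosure
import Mathlib.FieldTheory.Galois.Basic
import Mathlib.Algebra.Polynomial.Expand
import Mathlib.Algebra.CharP.Frobenius
import Mathlib.FieldTheory.Separable
import Mathlib.Algebra.Polynomial.GroupRingAction

/-! The different exponent in a Galois extension. -/

namespace Groth.Agent.Diff31

open FunFld WithZero Polynomial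
open FF30 (Congr congrOne)
open scoped LaurentSeries IntermediateField

universe u v v'' w

theorem exists_eq_pow_mul (κ : Type*) [Field κ] {e : ℕ} (he : 0 < e) :
    ∃ r m : ℕ, e = ringExpChar κ ^ r * m ∧ (m : κ) ≠ 0 := by
  obtain ⟨q, hq⟩ : ∃ q, ringExpChar κ = q := ⟨_, rfl⟩
  rw [hq]
  have hE : ExpChar κ q := hq ▸ inferInstance
  cases hE with
  | zero => exact ⟨0, e, by simp, Nat.cast_ne_zero.2 he.ne'⟩
  | prime hp =>
    obtain ⟨r, m, hm, hem⟩ := Nat.exists_eq_pow_mul_and_not_dvd he.ne' q hp.ne_one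
    exact ⟨r, m, hem, by rwa [Ne, CharP.cast_eq_zero_iff κ q]⟩

theorem log_prod_exp {ι : Type*} (S : Finset ι) (f : ι → ℤ) :
    ∏ i ∈ S, (exp (f i) : WithZero (Multiplicative ℤ)) = exp (∑ i ∈ S, f i) := by
  classical
  induction S using Finset.induction_on with
  | empty => simp
  | insert a S ha ih => rw [Finset.prod_insert ha, Finset.sum_insert ha, ih, exp_add]

theorem coeff_X_sub_C_pow_mul {κ : Type*} [CommRing κ] {q : ℕ} [ExpChar κ q] (θ : κ) {r m : ℕ}
    (hm : 0 < m) :
    ((X - C θ) ^ (q ^ r * m)).coeff ((m - 1) * q ^ r) = -((m : κ) * θ ^ q ^ r) := by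
  have hq : 0 < q ^ r := pow_pos (expChar_pos κ q) r
  rw [pow_mul, sub_pow_expChar_pow, ← C_pow,
    show (X : κ[X]) ^ q ^ r - C (θ ^ q ^ r) = expand κ (q ^ r) (X - C (θ ^ q ^ r)) by simp,
    ← map_pow, coeff_expand_mul hq, sub_eq_add_neg X, ← C_neg, coeff_X_add_C_pow,
    show m - (m - 1) = 1 by omega, pow_one, Nat.choose_symm_of_eq_add (show m = (m - 1) + 1 by omega),
    Nat.choose_one_right]
  ring

variable {k : Type u} {K K' : Type v} [Field k] [Field K] [Field K'] [Algebra k K] [Algebra k K']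
  [Algebra K K'] [IsScalarTower k K K'] [FiniteDimensional K K']
  {F F' : Type w} [Field F] [Algebra k F] [Field F'] [Algebra k F'] {P : Place k K} {Q : Place k K'}
  {e : ℕ} {φ : K →ₐ[k] F⸨X⸩} {ψ : K' →ₐ[k] F'⸨X⸩}

omit [Field K] [Algebra k K] [Algebra K K'] [IsScalarTower k K K'] [FiniteDimensional K K'] in
/-- Integers of an unramified subfield vary no faster than its uniformizer. -/
theorem val_D_le_of_gen (hψ : LocRes.IsExpansionAt Q.1 ψ) {L : Type v''} [Field L] [Algebra k L]
    [Algebra L K'] [IsScalarTower k L K'] {q : Place k L} {e₁ : ℕ} (hq : IsOverWith Q q e₁)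
    {p : k[X]} {a₀ : L} (ha₀ : q.1 a₀ ≤ 1) (hp : q.1 (aeval a₀ p) < 1)
    (hd : q.1 (aeval a₀ (derivative p)) = 1)
    (hgen : ∀ u : L, q.1 u ≤ 1 → ∃ g : k[X], q.1 (u - aeval a₀ g) < 1)
    {τ : L} (hτ : q.1 τ = exp (-1)) {E : WithZero (Multiplicative ℤ)} (hE0 : E ≠ 0)
    (hτE : Valued.v (LocRes.D F' (ψ (algebraMap L K' τ))) ≤ E) {u : L} (hu : q.1 u ≤ 1) :
    Valued.v (LocRes.D F' (ψ (algebraMap L K' u))) ≤ E := by
  have he1 : 0 < e₁ := FF30.isOverWith_pos hq
  set ψ₀ : L →ₐ[k] F'⸨X⸩ := ψ.comp (IsScalarTower.toAlgHom k L K')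
  have hle : ∀ z : L, q.1 z ≤ 1 → Valued.v (ψ₀ z) ≤ 1 := fun z hz => by
    show Valued.v (ψ (algebraMap L K' z)) ≤ 1
    rw [hψ.1, hq]; exact pow_le_one₀ zero_le hz
  have hDg : ∀ (g : k[X]) (a : L),
      LocRes.D F' (ψ₀ (aeval a g)) = ψ₀ (aeval a (derivative g)) * LocRes.D F' (ψ₀ a) := by
    intro g a
    induction g using Polynomial.induction_on' with
    | add x y hx hy => rw [map_add, map_add, map_add, hx, hy, derivative_add, map_add, map_add, add_mul]
    | monomial n c =>
      rw [aeval_monomial, map_mul, map_pow, Derivation.leibniz, Derivation.leibniz_pow,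
        LocRes.map_algebraMap, Exp31.D_C, smul_zero, add_zero, derivative_monomial, aeval_monomial,
        map_mul, map_pow, map_mul, map_mul, map_natCast, map_natCast, LocRes.map_algebraMap]
      simp only [smul_eq_mul, nsmul_eq_mul]
      ring
  have hqa : ∀ {a : L} (g : k[X]), q.1 a ≤ 1 → q.1 (aeval a g) ≤ 1 :=
    fun g ha => FF30.val_aeval_le_one q.1 q.2.1 ha g
  suffices H : ∀ (M : ℕ) (u : L), q.1 u ≤ 1 →
      Valued.v (LocRes.D F' (ψ₀ u)) ≤ max E (exp (-(M : ℤ))) by
    obtain ⟨n, rfl⟩ : ∃ n : ℤ, E = exp n := ⟨log E, (exp_log hE0).symm⟩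
    refine (H (-n).toNat u hu).trans (max_le le_rfl (exp_le_exp.2 ?_))
    omega
  intro M
  induction M with
  | zero =>
    intro u hu
    rw [Nat.cast_zero, neg_zero, exp_zero]
    exact (val_D_le_one (hle u hu)).trans (le_max_right _ _)
  | succ M ih =>
    intro u hu
    obtain ⟨a, ha, haa, hap⟩ := FF30.exists_approx_root p a₀ ha₀ hp hd (M + 2)
    have hda : q.1 (aeval a (derivative p)) = 1 := by
      have hlt : q.1 (aeval a (derivative p) - aeval a₀ (derivative p)) <
          q.1 (aeval a₀ (derivative p)) := by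
        rw [hd]; exact lt_of_le_of_lt (FF30.val_aeval_sub_le _ ha ha₀) haa
      have := q.1.map_add_eq_of_lt_left hlt
      rw [add_sub_cancel] at this
      rw [this, hd]
    have hDa : Valued.v (LocRes.D F' (ψ₀ a)) ≤ exp (-((M + 1 : ℕ) : ℤ)) := by
      have h1 : Valued.v (ψ₀ (aeval a p)) ≤ exp (-((M + 2 : ℕ) : ℤ)) := by
        show Valued.v (ψ (algebraMap L K' (aeval a p))) ≤ _
        rw [hψ.1, hq]
        exact (pow_le_pow_left₀ zero_le hap _).trans (by
          rw [← exp_nsmul, exp_le_exp, nsmul_eq_mul]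
          have : (1 : ℤ) ≤ e₁ := by exact_mod_cast he1
          push_cast
          nlinarith)
      have h2 := Exp31.val_D_le h1
      rw [hDg, map_mul, show Valued.v (ψ₀ (aeval a (derivative p))) = 1 by
        show Valued.v (ψ (algebraMap L K' (aeval a (derivative p)))) = 1
        rw [hψ.1, hq, hda, one_pow], one_mul] at h2
      refine h2.trans (exp_le_exp.2 ?_)
      push_cast
      omega
    obtain ⟨g, hg⟩ := hgen u hu
    have hg' : q.1 (u - aeval a g) < 1 := by
      rw [show u - aeval a g = (u - aeval a₀ g) + (aeval a₀ g - aeval a g) by ring]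
      refine lt_of_le_of_lt (q.1.map_add _ _) (max_lt hg ?_)
      refine lt_of_le_of_lt (FF30.val_aeval_sub_le g ha₀ ha) ?_
      rwa [Valuation.map_sub_swap]
    have hτ0 : τ ≠ 0 := fun h => by rw [h, map_zero] at hτ; exact exp_ne_zero hτ.symm
    set b := (u - aeval a g) / τ with hbdef
    have hb : q.1 b ≤ 1 := by
      rw [hbdef, map_div₀, hτ, div_le_one₀ (zero_lt_iff.2 exp_ne_zero)]
      exact FF30.val_lt_one_le q hg'
    have hub : u = aeval a g + τ * b := by rw [hbdef, mul_div_cancel₀ _ hτ0]; ring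
    rw [hub, map_add, map_add, hDg, map_mul ψ₀ τ b, Derivation.leibniz, smul_eq_mul, smul_eq_mul]
    refine (Valuation.map_add _ _ _).trans (max_le ?_ ((Valuation.map_add _ _ _).trans (max_le ?_ ?_)))
    · rw [map_mul]
      exact ((mul_le_of_le_one_left' (hle _ (hqa _ ha))).trans hDa).trans (le_max_right _ _)
    · rw [map_mul]
      have hvτ : Valued.v (ψ₀ τ) ≤ exp (-1) := by
        show Valued.v (ψ (algebraMap L K' τ)) ≤ _
        rw [hψ.1, hq, hτ, ← exp_nsmul, exp_le_exp, nsmul_eq_mul]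
        omega
      refine (mul_le_mul' hvτ (ih b hb)).trans ?_
      rcases max_choice E (exp (-(M : ℤ))) with h | h <;> rw [h]
      · exact (mul_le_of_le_one_left' ((exp_le_exp.2 (by norm_num)).trans_eq exp_zero)).trans (le_max_left _ _)
      · rw [← exp_add]
        exact le_max_of_le_right (exp_le_exp.2 (by push_cast; omega))
    · rw [map_mul]
      exact ((mul_le_of_le_one_left' (hle b hb)).trans hτE).trans (le_max_left _ _)

/-- A residue generator fixed by the inertia group. -/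
theorem exists_fixed_generator (hF : FF30.FF k K) [IsGalois K K']
    [Algebra.IsSeparable k (IsLocalRing.ResidueField Q.O)] :
    ∃ (a : IntermediateField.fixedField (congrOne (K := K) Q)) (p : k[X]),
      Q.1 (a : K') ≤ 1 ∧ Q.1 (aeval (a : K') p) < 1 ∧ Q.1 (aeval (a : K') (derivative p)) = 1 ∧
      ∀ u : K', Q.1 u ≤ 1 → ∃ g : k[X], Q.1 (u - aeval (a : K') g) < 1 := by
  classical
  set κ := IsLocalRing.ResidueField Q.O
  have hmod : (IsLocalRing.instModuleResidueFieldOfAlgebra Q.O : Module k κ) = Algebra.toModule :=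
    Module.ext' _ _ fun c r => (FF30.residue_smul_eq_mul Q c r).trans (Algebra.smul_def c r).symm
  have hfin : @Module.Finite k κ _ _ Algebra.toModule := hmod ▸ (hF.extension K').finite_residueField Q
  obtain ⟨θ, hθ⟩ := Field.exists_primitive_element k κ
  obtain ⟨α, hα⟩ := IsLocalRing.residue_surjective θ
  set G := congrOne (K := K) Q with hG
  set L := IntermediateField.fixedField G
  have hσle : ∀ (σ : G) (x : K'), Q.1 x ≤ 1 → Q.1 ((σ : K' ≃ₐ[K] K') x) ≤ 1 := fun σ x hx =>
    (FF30.congr_val_eq σ.2 x).trans_le hx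
  let conj : G → Q.O := fun σ => ⟨(σ : K' ≃ₐ[K] K') (α : K'), hσle σ _ α.2⟩
  have hconj : ∀ σ, IsLocalRing.residue Q.O (conj σ) = θ := fun σ => by
    rw [← hα]
    refine sub_eq_zero.1 ?_
    rw [← map_sub, IsLocalRing.residue_eq_zero_iff]
    refine (Valuation.mem_maximalIdeal_iff (v := Q.1)).2 ?_
    exact (σ.2 _ α.2).trans_lt (FF30.exp_neg_lt_one le_rfl)
  set e := Fintype.card G
  obtain ⟨r, m, hem, hm⟩ := exists_eq_pow_mul κ (Fintype.card_pos : 0 < e)
  have hm0 : 0 < m := by
    rcases Nat.eq_zero_or_pos m with h | h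
    · rw [h, Nat.cast_zero] at hm; exact absurd rfl hm
    · exact h
  let χ : (Q.O)[X] := ∏ σ : G, (X - C (conj σ))
  set i := (m - 1) * ringExpChar κ ^ r
  set c : Q.O := χ.coeff i
  have hcL : (c : K') ∈ L := by
    intro τ
    have hK' : χ.map (algebraMap Q.O K') = ∏ σ : G, (X - C ((σ : K' ≃ₐ[K] K') (α : K'))) := by
      simp [χ, Polynomial.map_prod, conj]
    have hinv : (χ.map (algebraMap Q.O K')).map ((τ : K' ≃ₐ[K] K') : K' →+* K') =
        χ.map (algebraMap Q.O K') := by
      rw [hK', Polynomial.map_prod]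
      refine Fintype.prod_equiv (Equiv.mulLeft τ) _ _ fun σ => ?_
      simp
    have := congrArg (fun f => Polynomial.coeff f i) hinv
    rw [coeff_map, coeff_map] at this
    exact this
  have hres : IsLocalRing.residue Q.O c = -((m : κ) * θ ^ ringExpChar κ ^ r) := by
    rw [← coeff_map, ← coeff_X_sub_C_pow_mul θ hm0, ← hem]
    congr 1
    simp [χ, Polynomial.map_prod, hconj, e]
  set β := IsLocalRing.residue Q.O c
  have hgen : k⟮β⟯ = ⊤ := by
    have hkq : ExpChar k (ringExpChar κ) :=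
      (algebraMap k κ).expChar (algebraMap k κ).injective _
    have h := IntermediateField.adjoin_eq_adjoin_pow_expChar_pow_of_isSeparable' k κ {θ} (ringExpChar κ) r
    rw [hθ, Set.image_singleton] at h
    rw [eq_top_iff, h, IntermediateField.adjoin_le_iff, Set.singleton_subset_iff]
    have h2 : θ ^ ringExpChar κ ^ r = -(β * (m : κ)⁻¹) := by
      rw [hres]; field_simp
    rw [SetLike.mem_coe, h2]
    exact neg_mem (mul_mem (IntermediateField.mem_adjoin_simple_self k β) (inv_mem (natCast_mem _ m)))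
  have hint : IsIntegral k β := IsIntegral.of_finite k _
  have hcoe : ∀ g : k[X], ((aeval c g : Q.O) : K') = aeval (c : K') g :=
    fun g => (aeval_algebraMap_apply K' c g).symm
  have hresg : ∀ g : k[X], IsLocalRing.residue Q.O (aeval c g) = aeval β g := by
    intro g
    induction g using Polynomial.induction_on' with
    | add p q hp hq => simp only [map_add, hp, hq]
    | monomial n d => simp only [aeval_monomial, map_mul, map_pow]; rfl
  have hlt : ∀ z : Q.O, IsLocalRing.residue Q.O z = 0 ↔ Q.1 (z : K') < 1 := fun z => by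
    rw [IsLocalRing.residue_eq_zero_iff]; exact Valuation.mem_maximalIdeal_iff (v := Q.1)
  refine ⟨⟨(c : K'), hcL⟩, minpoly k β, c.2, ?_, ?_, fun u hu => ?_⟩
  · show Q.1 (aeval (c : K') _) < 1
    rw [← hcoe, ← hlt, hresg, minpoly.aeval]
  · show Q.1 (aeval (c : K') _) = 1
    refine le_antisymm (FF30.val_aeval_le_one Q.1 Q.2.1 c.2 _) (not_lt.1 fun hlt' => ?_)
    refine (Algebra.IsSeparable.isSeparable k β).aeval_derivative_ne_zero (minpoly.aeval k β) ?_
    rw [← hresg, hlt, hcoe]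
    exact hlt'
  · have hmem : IsLocalRing.residue Q.O ⟨u, hu⟩ ∈ Algebra.adjoin k {β} := by
      rw [← IntermediateField.adjoin_simple_toSubalgebra_of_isAlgebraic hint.isAlgebraic, hgen]
      trivial
    rw [Algebra.adjoin_singleton_eq_range_aeval] at hmem
    obtain ⟨g, hg⟩ := hmem
    refine ⟨g, ?_⟩
    show Q.1 (u - aeval (c : K') g) < 1
    rw [← hcoe]
    exact (hlt (⟨u, hu⟩ - aeval c g)).1 (by rw [map_sub, hresg, ← hg]; exact sub_self _)

theorem diffExp_galois (hK : IsFunctionField k K) (hg : IsGeometric k K) [IsGalois K K']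
    (hφ : LocRes.IsExpansionAt P.1 φ) (hψ : LocRes.IsExpansionAt Q.1 ψ) (he : IsOverWith Q P e)
    {x : K} (hx : LocRes.vDiff φ 1 x ≠ 0) (hx' : LocRes.vDiff ψ 1 (algebraMap K K' x) ≠ 0) :
    (Function.support fun i : ℕ => (Nat.card {σ : K' ≃ₐ[K] K' // Congr Q i σ} : ℤ) - 1).Finite ∧
    LocRes.diffExp φ ψ e x = ∑ᶠ i : ℕ, if 1 ≤ i then
      (Nat.card {σ : K' ≃ₐ[K] K' // Congr Q i σ} : ℤ) - 1 else 0 := by
  classical
  have hF : FF30.FF k K := hK.1
  have := isSeparable_residue hK hg hψ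
  have := (hF.extension K').finite_residueField Q
  obtain ⟨τ, hτ, hd, hle⟩ := exists_param hK hg hφ hψ he hx hx'
  set G := congrOne (K := K) Q with hG
  set L := IntermediateField.fixedField G with hL
  have hmemG : ∀ σ, σ ∈ G ↔ σ ∈ FF30.inertiaIn (K := K) Q := fun σ => by
    rw [FF30.mem_inertiaIn]
    exact ⟨fun h x hx => (h x hx).trans_lt (FF30.exp_neg_lt_one le_rfl),
      fun h x hx => by simpa using FF30.val_lt_one_le Q (h x hx)⟩
  have : IsScalarTower k L K' := IsScalarTower.of_algebraMap_eq fun _ => rfl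
  obtain ⟨q, e₁, hq, he₁⟩ := hF.card_inertiaIn_inf_fixing L (Q := Q)
  have hee : e₁ = e := by
    rw [he₁, hL, IntermediateField.fixingSubgroup_fixedField, ← hF.card_inertia he, ← FF30.card_inertiaIn]
    refine Nat.card_congr (Equiv.subtypeEquivRight fun σ => ?_)
    rw [Subgroup.mem_inf, hmemG, and_self_iff]
  subst hee
  have he1 : 0 < e₁ := FF30.isOverWith_pos hq
  obtain ⟨s, hs0, hs⟩ := FF30.exists_val_eq Q (-1)
  have hpow_inj : ∀ {y z : WithZero (Multiplicative ℤ)}, y ^ e₁ = z ^ e₁ → y = z := fun h =>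
    (pow_left_inj₀ zero_le zero_le he1.ne').1 h
  obtain ⟨a, p, ha, hp, hdp, hgen⟩ := exists_fixed_generator (Q := Q) hF
  have hqQ : ∀ z : L, Q.1 (z : K') = q.1 z ^ e₁ := hq
  have hqle : ∀ z : L, q.1 z ≤ 1 ↔ Q.1 (z : K') ≤ 1 := fun z => (FF30.isOverWith_le_one_iff hq z).symm
  have hqlt : ∀ z : L, q.1 z < 1 ↔ Q.1 (z : K') < 1 := fun z => by
    rw [hqQ, pow_lt_one_iff_of_nonneg zero_le he1.ne']
  have hcoea : ∀ g : k[X], ((aeval a g : L) : K') = aeval (a : K') g :=
    fun g => (aeval_algebraMap_apply K' a g).symm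
  set E : WithZero (Multiplicative ℤ) := exp (-LocRes.diffExp φ ψ e₁ x)
  set τL : L := algebraMap K L τ
  have hτL : q.1 τL = exp (-1) := hpow_inj (by
    rw [← hqQ]
    show Q.1 (algebraMap K K' τ) = _
    rw [he, hτ])
  have hDL : ∀ u : L, q.1 u ≤ 1 → Valued.v (LocRes.D F' (ψ (u : K'))) ≤ E := fun u hu => by
    refine val_D_le_of_gen hψ hq ((hqle a).2 ha) (p := p) ((hqlt _).2 (by rw [hcoea]; exact hp))
      (hpow_inj (by rw [← hqQ, one_pow, hcoea]; exact hdp)) (fun w hw => ?_) hτL exp_ne_zero hd.le hu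
    obtain ⟨g, hg'⟩ := hgen (w : K') ((hqle w).1 hw)
    refine ⟨g, (hqlt _).2 ?_⟩
    show Q.1 ((w : K') - ((aeval a g : L) : K')) < 1
    rwa [hcoea]
  -- the equation of `s` over `L`
  set g : K'[X] := ∏ σ : G, (X - C ((σ : K' ≃ₐ[K] K') s))
  have hgs : g.eval s = 0 := by
    rw [eval_prod]
    exact Finset.prod_eq_zero (Finset.mem_univ 1) (by simp)
  have hgL : ∀ i, g.coeff i ∈ L := fun i τ => by
    have hinv : g.map ((τ : K' ≃ₐ[K] K') : K' →+* K') = g := by
      rw [Polynomial.map_prod]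
      refine Fintype.prod_equiv (Equiv.mulLeft τ) _ _ fun σ => ?_
      simp
    have := congrArg (fun f => Polynomial.coeff f i) hinv
    rw [coeff_map] at this
    exact this
  have hσs : ∀ σ : G, Q.1 ((σ : K' ≃ₐ[K] K') s) = exp (-1) := fun σ => (FF30.congr_val_eq σ.2 s).trans hs
  have hgint : ∀ i, Q.1 (g.coeff i) ≤ 1 := fun i => by
    let conj : G → Q.O := fun σ => ⟨(σ : K' ≃ₐ[K] K') s,
      (hσs σ).trans_le ((exp_le_exp.2 (by norm_num)).trans_eq exp_zero)⟩
    have hg' : g = (∏ σ : G, (X - C (conj σ))).map (algebraMap Q.O K') := by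
      simp [g, Polynomial.map_prod, conj]
    rw [hg', coeff_map]
    exact ((∏ σ : G, (X - C (conj σ))).coeff i).2
  have hcardG : Fintype.card G = e₁ := by
    have : Nat.card G = e₁ := by
      rw [← hF.card_inertia he, ← FF30.card_inertiaIn]
      exact Nat.card_congr (Equiv.subtypeEquivRight hmemG)
    rwa [Nat.card_eq_fintype_card] at this
  have hg0 : Q.1 (g.coeff 0) = exp (-1) ^ e₁ := by
    rw [coeff_zero_eq_eval_zero, eval_prod, map_prod]
    simp only [eval_sub, eval_X, eval_C, zero_sub, Valuation.map_neg, hσs, Finset.prod_const,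
      Finset.card_univ, hcardG]
  have hder := val_deriv_eq hψ (E := E) exp_ne_zero hs hgs
    (fun i => hDL ⟨g.coeff i, hgL i⟩ ((hqle _).2 (hgint i))) (by
      have hτ0 : (τL : K') ≠ 0 := fun h => by
        have := hqQ τL; rw [h, map_zero, hτL] at this; exact pow_ne_zero _ exp_ne_zero this.symm
      rw [← mul_div_cancel₀ (g.coeff 0) hτ0]
      have hu : Q.1 (g.coeff 0 / τL) = 1 := by
        rw [map_div₀, hg0, hqQ, hτL, div_self (pow_ne_zero _ exp_ne_zero)]
      refine val_D_mul_unit hψ exp_ne_zero ?_ hd hu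
        (hDL ⟨_, div_mem (hgL 0) τL.2⟩ ((hqle _).2 hu.le))
      rw [hqQ, hτL]
      exact pow_lt_one₀ zero_le ((exp_lt_exp.2 (by norm_num)).trans_eq exp_zero) he1.ne')
  -- evaluate the derivative
  set S := Finset.univ.erase (1 : G)
  have hprod : (derivative g).eval s = ∏ σ ∈ S, (s - (σ : K' ≃ₐ[K] K') s) := by
    simp only [g]
    rw [← Finset.mul_prod_erase _ _ (Finset.mem_univ (1 : G)), derivative_mul, eval_add, eval_mul, eval_mul]
    simp [eval_prod, S]
  rw [hprod, map_prod] at hder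
  have hσne : ∀ σ ∈ S, (σ : K' ≃ₐ[K] K') s ≠ s := by
    intro σ hσ heq
    have : Q.1 (∏ σ ∈ S, (s - (σ : K' ≃ₐ[K] K') s)) = 0 := by
      rw [Finset.prod_eq_zero hσ (by rw [heq, sub_self]), map_zero]
    rw [map_prod, hder] at this
    exact exp_ne_zero this
  let ι : G → ℕ := fun σ => (Q.ord (s - (σ : K' ≃ₐ[K] K') s)).toNat
  have hι : ∀ σ ∈ S, Q.1 (s - (σ : K' ≃ₐ[K] K') s) = exp (-(ι σ : ℤ)) := fun σ hσ => by
    have h0 : s - (σ : K' ≃ₐ[K] K') s ≠ 0 := sub_ne_zero.2 (hσne σ hσ).symm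
    have hpos : 0 ≤ Q.ord (s - (σ : K' ≃ₐ[K] K') s) := by
      rw [← FF30.val_le_one_iff]
      have hexp : (exp (-1 : ℤ)) ≤ (1 : WithZero (Multiplicative ℤ)) :=
        (exp_le_exp.2 (by norm_num)).trans_eq exp_zero
      exact (Q.1.map_sub _ _).trans (max_le (hs.trans_le hexp) ((hσs σ).trans_le hexp))
    rw [FF30.val_eq Q h0]
    congr 1
    simp only [ι]
    omega
  rw [Finset.prod_congr rfl hι] at hder
  have hsum : LocRes.diffExp φ ψ e₁ x = ∑ σ ∈ S, (ι σ : ℤ) := by
    rw [log_prod_exp, exp_inj, Finset.sum_neg_distrib] at hder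
    linarith
  have hcong : ∀ (i : ℕ) (σ : K' ≃ₐ[K] K'), 1 ≤ i →
      (Congr Q i σ ↔ ∃ h : σ ∈ G, ⟨σ, h⟩ ∉ S ∨ i ≤ ι ⟨σ, h⟩) := by
    intro i σ hi
    constructor
    · intro h
      have hσ : σ ∈ G := FF30.congr_congrOne hi h
      refine ⟨hσ, or_iff_not_imp_left.2 fun hS => ?_⟩
      rw [not_not] at hS
      have h1 := h s (hs.trans_le ((exp_le_exp.2 (by norm_num)).trans_eq exp_zero))
      rw [Valuation.map_sub_swap, hι _ hS, exp_le_exp] at h1
      omega
    · rintro ⟨hσ, h⟩
      refine FF30.congr_of_uniformizer hσ hs ?_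
      rcases h with h | h
      · have : (⟨σ, hσ⟩ : G) = 1 := by simpa [S] using h
        rw [show σ = 1 from congrArg Subtype.val this, AlgEquiv.one_apply, sub_self, map_zero]
        exact zero_le
      · by_cases hS : (⟨σ, hσ⟩ : G) ∈ S
        · rw [Valuation.map_sub_swap, hι _ hS, exp_le_exp]; omega
        · have : (⟨σ, hσ⟩ : G) = 1 := by simpa [S] using hS
          rw [show σ = 1 from congrArg Subtype.val this, AlgEquiv.one_apply, sub_self, map_zero]
          exact zero_le
  have hcount : ∀ i : ℕ, 1 ≤ i →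
      (Nat.card {σ : K' ≃ₐ[K] K' // Congr Q i σ} : ℤ) - 1 = ((S.filter fun σ => i ≤ ι σ).card : ℤ) := by
    intro i hi
    have h1 : Nat.card {σ : K' ≃ₐ[K] K' // Congr Q i σ} = (insert (1 : G) (S.filter fun σ => i ≤ ι σ)).card := by
      rw [← Fintype.card_coe, ← Nat.card_eq_fintype_card]
      refine Nat.card_congr
        { toFun := fun σ => ⟨⟨σ.1, ((hcong i σ.1 hi).1 σ.2).fst⟩, ?_⟩
          invFun := fun σ => ⟨(σ.1 : K' ≃ₐ[K] K'), (hcong i _ hi).2 ⟨σ.1.2, ?_⟩⟩
          left_inv := fun σ => rfl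
          right_inv := fun σ => rfl }
      · obtain ⟨hσ, h⟩ := (hcong i σ.1 hi).1 σ.2
        by_cases hS : (⟨σ.1, hσ⟩ : G) ∈ S
        · exact Finset.mem_insert_of_mem (Finset.mem_filter.2 ⟨hS, h.resolve_left (not_not.2 hS)⟩)
        · have : (⟨σ.1, hσ⟩ : G) = 1 := by simpa [S] using hS
          rw [this]; exact Finset.mem_insert_self _ _
      · rcases Finset.mem_insert.1 σ.2 with h | h
        · left; rw [Subtype.coe_eta, h]; simp [S]
        · right; exact (Finset.mem_filter.1 h).2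
    rw [h1, Finset.card_insert_of_notMem (by simp [S])]
    push_cast
    ring
  set N := S.sup ι
  refine ⟨(Finset.range (N + 1)).finite_toSet.subset fun i hi => ?_, ?_⟩
  · rw [Finset.coe_range, Set.mem_Iio]
    by_contra hlt
    apply hi
    simp only
    rw [hcount i (by omega), Finset.filter_false_of_mem, Finset.card_empty, Nat.cast_zero]
    exact fun σ hσ => by have := Finset.le_sup (f := ι) hσ; omega
  · rw [hsum, finsum_eq_sum_of_support_subset _ (s := Finset.Icc 1 N) ?_]
    · have hstep : ∀ i ∈ Finset.Icc 1 N, (if 1 ≤ i then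
          (Nat.card {σ : K' ≃ₐ[K] K' // Congr Q i σ} : ℤ) - 1 else 0) =
          ∑ σ ∈ S, if i ≤ ι σ then (1 : ℤ) else 0 := fun i hi => by
        rw [if_pos (Finset.mem_Icc.1 hi).1, hcount i (Finset.mem_Icc.1 hi).1, Finset.sum_boole]
      rw [Finset.sum_congr rfl hstep, Finset.sum_comm]
      refine Finset.sum_congr rfl fun σ hσ => ?_
      rw [Finset.sum_boole]
      have : (Finset.Icc 1 N).filter (fun i => i ≤ ι σ) = Finset.Icc 1 (ι σ) := by
        ext i
        have := Finset.le_sup (f := ι) hσ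
        simp only [Finset.mem_filter, Finset.mem_Icc]
        omega
      rw [this, Nat.card_Icc, Nat.add_sub_cancel]
    · intro i hi
      rw [Function.mem_support] at hi
      rw [Finset.coe_Icc, Set.mem_Icc]
      by_cases h1 : 1 ≤ i
      · refine ⟨h1, ?_⟩
        by_contra hlt
        rw [if_pos h1, hcount i h1, Finset.filter_false_of_mem, Finset.card_empty] at hi
        · exact hi rfl
        · exact fun σ hσ => by have := Finset.le_sup (f := ι) hσ; omega
      · rw [if_neg h1] at hi; exact absurd rfl hi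

end Groth.Agent.Diff31
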