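import Groth.Agent.Diff31.Local
import Groth.Agent.FF30.Ramif
import Groth.Agent.FF30.IntClosure
import Groth.Agent.FF30.Approx
import Mathlib.RingTheory.Valuation.Extension
import Mathlib.RingTheory.Finiteness.Nakayama
import Mathlib.RingTheory.DedekindDomain.Different
import Mathlib.FieldTheory.Minpoly.IsIntegrallyClosed

/-! Totally ramified places, and monogenicity at a place of residue degree one. -/

namespace Groth.Agent.Diff31

open FunFld WithZero Polynomial
open scoped LaurentSeries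

universe u v w

variable {k : Type u} {K K' : Type v} [Field k] [Field K] [Field K'] [Algebra k K] [Algebra k K']
  [Algebra K K'] {P : Place k K} {Q : Place k K'} {e : ℕ}

/-- The minimal polynomial of a parameter at a totally ramified place is Eisenstein. -/
theorem minpoly_of_totallyRamified [FiniteDimensional K K'] (he : IsOverWith Q P e)
    (hn : e = Module.finrank K K') {s : K'} (hs : Q.1 s = exp (-1)) :
    (∀ i, P.1 ((minpoly K s).coeff i) ≤ 1) ∧ P.1 ((minpoly K s).coeff 0) = exp (-1) := by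
  classical
  set f := minpoly K s
  have hint : IsIntegral K s := Algebra.IsIntegral.isIntegral s
  have hd : f.natDegree ≤ e := hn ▸ minpoly.natDegree_le s
  have hd0 : 0 < f.natDegree := minpoly.natDegree_pos hint
  set d := f.natDegree
  let T : ℕ → K' := fun i => algebraMap K K' (f.coeff i) * s ^ i
  have hs0 : s ≠ 0 := fun h => by rw [h, map_zero] at hs; exact exp_ne_zero hs.symm
  have hTv : ∀ i, f.coeff i ≠ 0 → Q.1 (T i) = exp (-((e : ℤ) * P.ord (f.coeff i) + i)) := fun i hi => by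
    simp only [T, map_mul, map_pow, hs]
    rw [he, FF30.val_eq P hi, ← exp_nsmul, ← exp_nsmul, ← exp_add]
    congr 1
    simp only [nsmul_eq_mul]
    ring
  have hTd : Q.1 (T d) = exp (-(d : ℤ)) := by
    simp only [T]
    rw [show f.coeff d = 1 from (minpoly.monic hint).coeff_natDegree, map_one, one_mul, map_pow, hs,
      ← exp_nsmul]
    simp
  have h0 : ∑ i ∈ Finset.range d, T i = -T d := by
    have h := minpoly.aeval K s
    rw [aeval_eq_sum_range, Finset.sum_range_succ] at h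
    simp only [Algebra.smul_def] at h
    exact eq_neg_of_add_eq_zero_left h
  obtain ⟨m, hm, hmax⟩ := Finset.exists_max_image (Finset.range d) (fun i => Q.1 (T i))
    ⟨0, Finset.mem_range.2 hd0⟩
  have hmne : f.coeff m ≠ 0 := by
    intro hm0
    have : ∑ i ∈ Finset.range d, T i = 0 := Finset.sum_eq_zero fun i hi => by
      have := hmax i hi
      simp only [T, hm0, map_zero, zero_mul, le_zero_iff] at this
      exact (Valuation.zero_iff _).1 this
    rw [this, eq_comm, neg_eq_zero] at h0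
    rw [h0, map_zero] at hTd
    exact exp_ne_zero hTd.symm
  have hlt : ∀ i ∈ Finset.range d, i ≠ m → Q.1 (T i) < Q.1 (T m) := fun i hi him => by
    refine lt_of_le_of_ne (hmax i hi) ?_
    rcases eq_or_ne (f.coeff i) 0 with h | h
    · simp [T, h, hTv m hmne]
    rw [hTv i h, hTv m hmne, Ne, exp_inj]
    intro heq
    rw [Finset.mem_range] at hi hm
    have h1 : ((e : ℤ) ∣ (i : ℤ) - m) :=
      ⟨P.ord (f.coeff m) - P.ord (f.coeff i), by linarith⟩
    have h2 : (i : ℤ) - m = 0 := Int.eq_zero_of_abs_lt_dvd h1 (by rw [abs_lt]; omega)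
    omega
  have hval : Q.1 (∑ i ∈ Finset.range d, T i) = Q.1 (T m) := by
    rw [← Finset.add_sum_erase _ _ hm, Valuation.map_add_eq_of_lt_left]
    refine Valuation.map_sum_lt _ (by rw [hTv m hmne]; exact exp_ne_zero) fun i hi => ?_
    exact hlt i (Finset.mem_of_mem_erase hi) (Finset.ne_of_mem_erase hi)
  rw [h0, Valuation.map_neg, hTd, hTv m hmne, exp_inj] at hval
  rw [Finset.mem_range] at hm
  have hmv : (e : ℤ) * P.ord (f.coeff m) = (d : ℤ) - m := by omega
  have hord : P.ord (f.coeff m) = 1 := by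
    have h1 : 0 < P.ord (f.coeff m) := pos_of_mul_pos_right (show (0 : ℤ) < (e : ℤ) * _ by omega) (by omega)
    by_contra hne
    have h2 : (e : ℤ) * 2 ≤ (e : ℤ) * P.ord (f.coeff m) := mul_le_mul_of_nonneg_left (by omega) (by omega)
    omega
  rw [hord, mul_one] at hmv
  have hm0 : m = 0 := by omega
  subst hm0
  refine ⟨fun i => ?_, by rw [FF30.val_eq P hmne, hord]⟩
  rcases eq_or_ne (f.coeff i) 0 with h | h
  · simp [h]
  rcases lt_trichotomy i d with hi | hi | hi
  · have := hmax i (Finset.mem_range.2 hi)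
    rw [hTv i h, hTv 0 hmne, exp_le_exp, hord] at this
    rw [FF30.val_le_one_iff]
    by_contra hneg
    have h2 : (e : ℤ) * P.ord (f.coeff i) ≤ (e : ℤ) * (-1) :=
      mul_le_mul_of_nonneg_left (by omega) (by omega)
    omega
  · subst hi
    rw [show f.coeff d = 1 from (minpoly.monic hint).coeff_natDegree, map_one]
  · exact absurd (coeff_eq_zero_of_natDegree_lt hi) h

variable [IsScalarTower k K K'] [FiniteDimensional K K']

theorem exists_residue_lift [P.1.HasExtension Q.1]
    (hf : Function.Surjective (algebraMap (IsLocalRing.ResidueField P.O) (IsLocalRing.ResidueField Q.O)))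
    {z : K'} (hz : Q.1 z ≤ 1) : ∃ a : K, P.1 a ≤ 1 ∧ Q.1 (z - algebraMap K K' a) < 1 := by
  obtain ⟨r, hr⟩ := hf (IsLocalRing.residue Q.O ⟨z, hz⟩)
  obtain ⟨a, rfl⟩ := IsLocalRing.residue_surjective r
  refine ⟨(a : K), a.2, ?_⟩
  rw [Valuation.HasExtension.algebraMap_residue_eq_residue_algebraMap] at hr
  have h : IsLocalRing.residue Q.O (⟨z, hz⟩ - algebraMap P.O Q.O a) = 0 := by
    rw [map_sub, hr]; exact sub_self _
  rw [IsLocalRing.residue_eq_zero_iff] at h
  exact (Valuation.mem_maximalIdeal_iff (v := Q.1)).mp h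

theorem exists_special (hF : FF30.FF k K) (he : IsOverWith Q P e) :
    ∃ s : K', Q.1 s = exp (-1) ∧ ∀ Q' : Place k K', IsOver Q' P → Q' ≠ Q → Q'.1 s = 1 := by
  classical
  obtain ⟨a, -, ha⟩ := FF30.exists_val_eq Q (-1)
  set S := (hF.finite_setOf_isOver (K' := K') P).toFinset
  have hS : ∀ R, R ∈ S ↔ IsOver R P := fun R => (hF.finite_setOf_isOver P).mem_toFinset
  obtain ⟨s, hs⟩ := FF30.exists_approx S (fun R => if R = Q then a else 1) fun _ => -2
  refine ⟨s, ?_, fun R hR hne => ?_⟩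
  · have h := hs Q ((hS Q).2 ⟨e, he⟩)
    rw [if_pos rfl] at h
    rw [← sub_add_cancel s a, Q.1.map_add_eq_of_lt_right, ha]
    rw [ha]; exact h.trans_lt (exp_lt_exp.2 (by norm_num))
  · have h := hs R ((hS R).2 hR)
    rw [if_neg hne] at h
    rw [← sub_add_cancel s 1, R.1.map_add_eq_of_lt_right, map_one]
    rw [map_one]; exact (h.trans_lt (exp_lt_exp.2 (by norm_num : (-2 : ℤ) < 0))).trans_eq exp_zero

/-- The order generated by a special parameter contains the integers away from `Q`. -/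
theorem exists_conductor (hF : FF30.FF k K) (he : IsOverWith Q P e)
    (hres : ∀ z : K', Q.1 z ≤ 1 → ∃ a : K, P.1 a ≤ 1 ∧ Q.1 (z - algebraMap K K' a) < 1)
    [Algebra P.O K'] [IsScalarTower P.O K K'] {s : K'} (hs : Q.1 s = exp (-1))
    (hs' : ∀ Q' : Place k K', IsOver Q' P → Q' ≠ Q → Q'.1 s = 1) :
    IsIntegral P.O s ∧
    (∀ z : K', IsIntegral P.O z → s * z ∈ Algebra.adjoin P.O ({s} : Set K') →
      z ∈ Algebra.adjoin P.O ({s} : Set K')) ∧
    ∃ r ∈ Algebra.adjoin P.O ({s} : Set K'), Q.1 r = 1 ∧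
      ∀ z : K', IsIntegral P.O z → r * z ∈ Algebra.adjoin P.O ({s} : Set K') := by
  classical
  have hint : ∀ z : K', IsIntegral P.O z ↔ ∀ Q' : Place k K', IsOver Q' P → Q'.1 z ≤ 1 :=
    fun z => hF.isIntegral_iff P z
  have hsi : IsIntegral P.O s := (hint s).2 fun R hR => by
    by_cases hRQ : R = Q
    · rw [hRQ, hs, ← exp_zero, exp_le_exp]; norm_num
    · exact (hs' R hR hRQ).le
  refine ⟨hsi, ?_⟩
  set A := Algebra.adjoin P.O ({s} : Set K') with hA
  have hs0 : s ≠ 0 := fun h => by rw [h, map_zero] at hs; exact exp_ne_zero hs.symm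
  have hsA : s ∈ A := Algebra.self_mem_adjoin_singleton _ _
  have hAi : ∀ a ∈ A, IsIntegral P.O a := fun a ha => adjoin_le_integralClosure hsi ha
  have hdec : ∀ z : K', IsIntegral P.O z →
      ∃ (a : P.O) (z' : K'), IsIntegral P.O z' ∧ z = algebraMap P.O K' a + s * z' := by
    intro z hz
    obtain ⟨a, ha, hlt⟩ := hres z ((hint z).1 hz Q ⟨e, he⟩)
    refine ⟨⟨a, ha⟩, (z - algebraMap K K' a) / s, (hint _).2 fun R hR => ?_, ?_⟩
    · rw [map_div₀]
      by_cases hRQ : R = Q
      · subst hRQ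
        rw [hs, div_le_one₀ (zero_lt_iff.2 exp_ne_zero)]
        exact FF30.val_lt_one_le _ hlt
      · rw [hs' R hR hRQ, div_one]
        refine (R.1.map_sub _ _).trans (max_le ((hint z).1 hz R hR) ?_)
        exact (FF30.isOverWith_le_one_iff (FF30.isOverWith_ramIdx hR) a).2 ha
    · rw [mul_div_cancel₀ _ hs0, IsScalarTower.algebraMap_apply P.O K K']
      exact (add_sub_cancel _ _).symm
  obtain ⟨b, -, -, hb⟩ := hF.exists_integral_basis P (K' := K')
  set N₁ : Submodule A K' := Submodule.span A (b : Set K')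
  have hN1 : ∀ z, IsIntegral P.O z → z ∈ N₁ := fun z hz => by
    have hz' : z ∈ Subalgebra.toSubmodule (integralClosure P.O K') := hz
    rw [hb] at hz'
    exact Submodule.span_le_restrictScalars P.O A (b : Set K') hz'
  have hN1' : ∀ z ∈ N₁, IsIntegral P.O z := fun z hz => by
    induction hz using Submodule.span_induction with
    | mem x hx =>
      have : x ∈ Subalgebra.toSubmodule (integralClosure P.O K') := hb ▸ Submodule.subset_span hx
      exact this
    | zero => exact isIntegral_zero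
    | add x y _ _ hx hy => exact hx.add hy
    | smul a x _ hx => rw [Subalgebra.smul_def, smul_eq_mul]; exact (hAi _ a.2).mul hx
  set A₁ : Submodule A K' := (1 : Submodule A K')
  have hA1 : ∀ z, z ∈ A₁ ↔ z ∈ A := fun z => by
    rw [Submodule.mem_one]
    exact ⟨by rintro ⟨a, rfl⟩; exact a.2, fun h => ⟨⟨z, h⟩, rfl⟩⟩
  obtain ⟨r, hr, hrN⟩ := Submodule.exists_sub_one_mem_and_smul_eq_zero_of_fg_of_le_smul
    (Ideal.span {(⟨s, hsA⟩ : A)}) (N₁.map A₁.mkQ) ((Submodule.fg_span b.finite_toSet).map _) (by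
      rintro _ ⟨z, hz, rfl⟩
      obtain ⟨a, z', hz', rfl⟩ := hdec z (hN1' z hz)
      rw [map_add, show A₁.mkQ (algebraMap P.O K' a) = 0 from
        (Submodule.Quotient.mk_eq_zero _).2 ((hA1 _).2 (A.algebraMap_mem a)), zero_add,
        show s * z' = (⟨s, hsA⟩ : A) • z' from rfl, map_smul]
      exact Submodule.smul_mem_smul (Ideal.mem_span_singleton_self _) ⟨z', hN1 z' hz', rfl⟩)
  obtain ⟨c, hc⟩ := Ideal.mem_span_singleton'.1 hr
  have hc' : (r : K') = 1 + (c : K') * s := by
    have := congrArg Subtype.val hc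
    simp only [MulMemClass.coe_mul] at this
    rw [this]
    simp
  have hrA : ∀ z, IsIntegral P.O z → (r : K') * z ∈ A := fun z hz => by
    have h := hrN _ ⟨z, hN1 z hz, rfl⟩
    rw [← map_smul] at h
    have h2 := (hA1 _).1 ((Submodule.Quotient.mk_eq_zero _).1 h)
    rwa [Subalgebra.smul_def, smul_eq_mul] at h2
  refine ⟨fun z hz hsz => ?_, (r : K'), r.2, ?_, hrA⟩
  · have : z = (r : K') * z - (c : K') * (s * z) := by rw [hc']; ring
    rw [this]
    exact sub_mem (hrA z hz) (mul_mem c.2 hsz)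
  · rw [hc', Q.1.map_add_eq_of_lt_left, map_one]
    rw [map_one, map_mul, hs]
    refine (mul_le_mul' ((hint _).1 (hAi _ c.2) Q ⟨e, he⟩) le_rfl).trans_lt ?_
    rw [one_mul, ← exp_zero, exp_lt_exp]; norm_num

theorem adjoin_eq_top_of_conductor (hF : FF30.FF k K) [Algebra P.O K'] [IsScalarTower P.O K K'] {s r : K'}
    (hr : r ∈ Algebra.adjoin P.O ({s} : Set K')) (hr0 : r ≠ 0)
    (h : ∀ z : K', IsIntegral P.O z → r * z ∈ Algebra.adjoin P.O ({s} : Set K')) :
    IntermediateField.adjoin K ({s} : Set K') = ⊤ := by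
  set L := IntermediateField.adjoin K ({s} : Set K')
  have hAL : ∀ a ∈ Algebra.adjoin P.O ({s} : Set K'), a ∈ L := fun a ha => by
    induction ha using Algebra.adjoin_induction with
    | mem x hx => exact IntermediateField.subset_adjoin _ _ hx
    | algebraMap c => rw [IsScalarTower.algebraMap_apply P.O K K']; exact L.algebraMap_mem _
    | add x y _ _ hx hy => exact add_mem hx hy
    | mul x y _ _ hx hy => exact mul_mem hx hy
  rw [eq_top_iff]
  intro z _
  obtain ⟨⟨c, hc⟩, hcz⟩ := IsIntegral.exists_multiple_integral_of_isLocalization (nonZeroDivisors P.O) z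
    (Algebra.IsIntegral.isIntegral (R := K) z)
  have hc0 : algebraMap P.O K' c ≠ 0 := by
    rw [IsScalarTower.algebraMap_apply P.O K K', _root_.map_ne_zero]
    exact fun h0 => nonZeroDivisors.ne_zero hc (Subtype.ext h0)
  have h1 : r * (algebraMap P.O K' c * z) ∈ L := hAL _ (h _ (by rw [← Algebra.smul_def]; exact hcz))
  have h2 : r * algebraMap P.O K' c ∈ L := mul_mem (hAL r hr) (hAL _ (Subalgebra.algebraMap_mem _ _))
  rw [← mul_assoc] at h1
  have := div_mem h1 h2
  rwa [mul_div_cancel_left₀ _ (mul_ne_zero hr0 hc0)] at this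

/-- The minimal polynomial of a special parameter. -/
theorem minpoly_of_special (hF : FF30.FF k K) (he : IsOverWith Q P e)
    (hres : ∀ z : K', Q.1 z ≤ 1 → ∃ a : K, P.1 a ≤ 1 ∧ Q.1 (z - algebraMap K K' a) < 1)
    [Algebra P.O K'] [IsScalarTower P.O K K'] {s : K'} (hs : Q.1 s = exp (-1))
    (hs' : ∀ Q' : Place k K', IsOver Q' P → Q' ≠ Q → Q'.1 s = 1) :
    (∀ i, P.1 ((minpoly K s).coeff i) ≤ 1) ∧ P.1 ((minpoly K s).coeff 0) = exp (-1) := by
  classical
  obtain ⟨hsi, hinj, -⟩ := exists_conductor hF he hres hs hs'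
  have : Module.IsTorsionFree P.O K' := Module.IsTorsionFree.trans_faithfulSMul P.O K K'
  have hmap := minpoly.isIntegrallyClosed_eq_field_fractions' K hsi
  set f₀ := minpoly P.O s
  have hcoef : ∀ i, (minpoly K s).coeff i = ((f₀.coeff i : P.O) : K) := fun i => by
    rw [hmap, coeff_map]; rfl
  obtain ⟨τ, hτ0, hτ⟩ := FF30.exists_val_eq P (-1)
  have hs0 : s ≠ 0 := fun h => by rw [h, map_zero] at hs; exact exp_ne_zero hs.symm
  have hτle : P.1 τ ≤ 1 := by rw [hτ, ← exp_zero, exp_le_exp]; norm_num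
  have hw : IsIntegral P.O (algebraMap K K' τ / s) := (hF.isIntegral_iff P _).2 fun R hR => by
    rw [map_div₀]
    by_cases hRQ : R = Q
    · subst hRQ
      rw [hs, he, hτ, div_le_one₀ (zero_lt_iff.2 exp_ne_zero), ← exp_nsmul, exp_le_exp]
      have := FF30.isOverWith_pos he
      simp only [nsmul_eq_mul]; omega
    · rw [hs' R hR hRQ, div_one]
      exact (FF30.isOverWith_le_one_iff (FF30.isOverWith_ramIdx hR) τ).2 hτle
  have hwA := hinj _ hw (by
    rw [mul_div_cancel₀ _ hs0, show algebraMap K K' τ = algebraMap P.O K' ⟨τ, hτle⟩ from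
      (IsScalarTower.algebraMap_apply P.O K K' ⟨τ, hτle⟩).symm]
    exact Subalgebra.algebraMap_mem _ _)
  rw [Algebra.adjoin_singleton_eq_range_aeval] at hwA
  obtain ⟨p, hp⟩ := hwA
  have hdvd : f₀ ∣ X * p - C (⟨τ, hτle⟩ : P.O) := minpoly.isIntegrallyClosed_dvd hsi (by
    rw [map_sub, map_mul, aeval_X, aeval_C]
    change s * (aeval s) p - _ = 0
    rw [show aeval s p = algebraMap K K' τ / s from hp, mul_div_cancel₀ _ hs0, sub_eq_zero]
    exact (IsScalarTower.algebraMap_apply P.O K K' ⟨τ, hτle⟩).symm)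
  obtain ⟨h, hh⟩ := hdvd
  have h0 := congrArg (fun q : (P.O)[X] => ((q.coeff 0 : P.O) : K)) hh
  simp only [mul_coeff_zero, coeff_sub, coeff_X_zero, zero_mul, coeff_C_zero, zero_sub] at h0
  change -τ = ((f₀.coeff 0 : P.O) : K) * ((h.coeff 0 : P.O) : K) at h0
  refine ⟨fun i => by rw [hcoef]; exact (f₀.coeff i).2, ?_⟩
  rw [hcoef]
  refine le_antisymm (FF30.val_lt_one_le P ?_) ?_
  · by_contra hge
    have h1 : P.1 ((f₀.coeff 0 : P.O) : K) = 1 := le_antisymm (f₀.coeff 0).2 (not_lt.1 hge)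
    have hfs : aeval s f₀ = 0 := minpoly.aeval _ _
    rw [← X_mul_divX_add f₀, map_add, map_mul, aeval_X, aeval_C] at hfs
    have h2 : Q.1 (algebraMap P.O K' (f₀.coeff 0)) < 1 := by
      rw [eq_neg_of_add_eq_zero_right hfs, Valuation.map_neg, map_mul, hs]
      have hle : IsIntegral P.O (aeval s f₀.divX) :=
        adjoin_le_integralClosure hsi (aeval_mem_adjoin_singleton _ _)
      refine (mul_le_mul' le_rfl ((hF.isIntegral_iff P _).1 hle Q ⟨e, he⟩)).trans_lt ?_
      rw [mul_one, ← exp_zero, exp_lt_exp]; norm_num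
    rw [IsScalarTower.algebraMap_apply P.O K K', he,
      show algebraMap P.O K (f₀.coeff 0) = ((f₀.coeff 0 : P.O) : K) from rfl, h1, one_pow] at h2
    exact lt_irrefl _ h2
  · rw [← hτ, ← Valuation.map_neg P.1 τ, h0, map_mul]
    exact mul_le_of_le_one_right' (h.coeff 0).2

variable [Algebra.IsSeparable K K']

omit [Algebra k K'] [IsScalarTower k K K'] in
/-- The trace dual of a monogenic order. -/
theorem trace_dual_adjoin_iff (P : Place k K) [Algebra P.O K'] [IsScalarTower P.O K K'] {y : K'}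
    (hy : IntermediateField.adjoin K ({y} : Set K') = ⊤) (hyi : IsIntegral P.O y) (z : K') :
    (∀ b ∈ Algebra.adjoin P.O ({y} : Set K'), P.1 (Algebra.trace K K' (z * b)) ≤ 1) ↔
      z * aeval y (derivative (minpoly K y)) ∈ Algebra.adjoin P.O ({y} : Set K') := by
  have hy' : Algebra.adjoin K ({y} : Set K') = ⊤ := by
    rw [← IntermediateField.adjoin_simple_toSubalgebra_of_isAlgebraic (Algebra.IsAlgebraic.isAlgebraic y),
      hy, IntermediateField.top_toSubalgebra]
  have hd := traceForm_dualSubmodule_adjoin P.O K hy' hyi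
  have hmem : (∀ b ∈ Algebra.adjoin P.O ({y} : Set K'), P.1 (Algebra.trace K K' (z * b)) ≤ 1) ↔
      z ∈ (Algebra.traceForm K K').dualSubmodule
        (Subalgebra.toSubmodule (Algebra.adjoin P.O ({y} : Set K'))) := by
    rw [LinearMap.BilinForm.mem_dualSubmodule]
    refine forall₂_congr fun b _ => ?_
    rw [Submodule.mem_one, Algebra.traceForm_apply]
    exact ⟨fun h => ⟨⟨_, h⟩, rfl⟩, fun ⟨a, ha⟩ => ha ▸ a.2⟩
  have hne : aeval y (derivative (minpoly K y)) ≠ 0 :=
    (Algebra.IsSeparable.isSeparable K y).aeval_derivative_ne_zero (minpoly.aeval K y)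
  rw [hmem, hd, Submodule.mem_smul_pointwise_iff_exists]
  constructor
  · rintro ⟨b, hb, rfl⟩
    rw [smul_eq_mul, mul_comm, mul_inv_cancel_left₀ hne]
    exact hb
  · intro h
    refine ⟨_, h, ?_⟩
    rw [smul_eq_mul, mul_comm z, inv_mul_cancel_left₀ hne]

variable {F F' : Type w} [Field F] [Algebra k F] [Field F'] [Algebra k F'] {φ : K →ₐ[k] F⸨X⸩}
  {ψ : K' →ₐ[k] F'⸨X⸩}

/-- The trace dual of the integers reaches exactly the different exponent. -/
theorem trace_dual_max (hK : IsFunctionField k K) (hg : IsGeometric k K)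
    (hφ : LocRes.IsExpansionAt P.1 φ) (hψ : LocRes.IsExpansionAt Q.1 ψ) (he : IsOverWith Q P e)
    {x : K} (hx : LocRes.vDiff φ 1 x ≠ 0) (hx' : LocRes.vDiff ψ 1 (algebraMap K K' x) ≠ 0)
    (hres : ∀ z : K', Q.1 z ≤ 1 → ∃ a : K, P.1 a ≤ 1 ∧ Q.1 (z - algebraMap K K' a) < 1)
    [Algebra P.O K'] [IsScalarTower P.O K K'] :
    (∀ y : K', (∀ z : K', IsIntegral P.O z → P.1 (Algebra.trace K K' (y * z)) ≤ 1) →
      Q.1 y ≤ exp (LocRes.diffExp φ ψ e x)) ∧
    ∃ y : K', (∀ z : K', IsIntegral P.O z → P.1 (Algebra.trace K K' (y * z)) ≤ 1) ∧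
      Q.1 y = exp (LocRes.diffExp φ ψ e x) := by
  have hF : FF30.FF k K := hK.1
  obtain ⟨s, hs, hs'⟩ := exists_special hF he
  obtain ⟨hsi, -, r, hr, hr1, hrR⟩ := exists_conductor hF he hres hs hs'
  have hr0 : r ≠ 0 := fun h => by rw [h, map_zero] at hr1; exact zero_ne_one hr1
  have htop := adjoin_eq_top_of_conductor hF hr hr0 hrR
  obtain ⟨hc, hc0⟩ := minpoly_of_special hF he hres hs hs'
  have hd := val_aeval_deriv hK hg hφ hψ he hx hx' hs (minpoly.aeval K s) hc hc0
  set f' := aeval s (derivative (minpoly K s))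
  have hf0 : f' ≠ 0 := fun h => by rw [h, map_zero] at hd; exact exp_ne_zero hd.symm
  have hA1 : ∀ a ∈ Algebra.adjoin P.O ({s} : Set K'), Q.1 a ≤ 1 := fun a ha =>
    (hF.isIntegral_iff P a).1 (adjoin_le_integralClosure hsi ha) Q ⟨e, he⟩
  refine ⟨fun y hy => ?_, r / f', fun z hz => ?_, ?_⟩
  · have h := hA1 _ ((trace_dual_adjoin_iff P htop hsi y).1 fun b hb =>
      hy b (adjoin_le_integralClosure hsi hb))
    rw [map_mul, hd, ← le_div_iff₀ (zero_lt_iff.2 exp_ne_zero), one_div, ← exp_neg, neg_neg] at h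
    exact h
  · have h := (trace_dual_adjoin_iff P htop hsi (r * z / f')).2
      (by rw [div_mul_cancel₀ _ hf0]; exact hrR z hz) 1 (one_mem _)
    rwa [mul_one, ← div_mul_eq_mul_div] at h
  · rw [map_div₀, hr1, hd, one_div, ← exp_neg, neg_neg]

end Groth.Agent.Diff31
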